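import Cfsg.Agent.TO.Rows_m3
import Cfsg.Prelude.Def_LieTypeDatum
import Cfsg.Agent.TO.Blk_m3
import Cfsg.Agent.H198.SemiMat
import Cfsg.Agent.LieClassical.SympCenter
import Cfsg.Agent.LieClassical.OrthCenter
import Cfsg.Agent.LieClassical.OrthFinite
import Cfsg.Agent.ClassicalGeometry.OrthCharTwo
import Cfsg.Agent.Prune
set_option linter.all false

section
prune_inst 0x7f00000000000000000000000000000000000000000000000000000000000000000000000000000000000000000000000000000000000000000000000000000000000000000000000000000000000000003fffffffffffffffffffffffffffbeffbdffffffff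

-- part: TO/Cl
section
set_option linter.all false

/-!
# S4817: the classical groups in cross characteristic (statements only), see `notes/TO/rows.md`
-/

set_option autoImplicit false

namespace Cfsg.Agent.TO

open Cfsg Matrix

/-- a Heisenberg pair of matrices for the prime `3` -/
structure Heis3 {n : ℕ} {F : Type} [Field F] (a b : Matrix (Fin n) (Fin n) F) (ω : F) : Prop where
  prim : IsPrimitiveRoot ω 3
  a3 : a ^ 3 = 1
  b3 : b ^ 3 = 1
  comm : a * b = ω • (b * a)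

/-- the surviving configuration in `PSL` -/
def SurvL (n : ℕ) (F : Type) [Field F] [Fintype F] (Q : Subgroup (ProjectiveSpecialLinearGroup (Fin n) F)) : Prop :=
  ∃ (a b : SpecialLinearGroup (Fin n) F) (ω : F), Heis3 a.1 b.1 ω ∧ ¬ 9 ∣ n ∧ ¬ 9 ∣ Fintype.card F - 1 ∧
    Q = Subgroup.closure {QuotientGroup.mk a, QuotientGroup.mk b}

/-- the surviving configuration in `PSU` -/
def SurvU (n : ℕ) (F : Type) [Field F] (q : ℕ) (Q : Subgroup (PSU n F q)) : Prop :=
  ∃ (a b : SU n F q) (ω : F), Heis3 a.1.1 b.1.1 ω ∧ ¬ 9 ∣ n ∧ 3 ∣ q + 1 ∧ ¬ 9 ∣ q + 1 ∧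
    Q = Subgroup.closure {QuotientGroup.mk a, QuotientGroup.mk b}

/-- [L1] -/
def BoxL1 : Prop := ∀ (p : ℕ) [Fact p.Prime] (F : Type) [Field F] [Fintype F] (n : ℕ), (p : F) ≠ 0 → 2 ≤ n →
  (n = 2 → 4 ≤ Fintype.card F) → ∀ (A : Subgroup (MulAut (ProjectiveSpecialLinearGroup (Fin n) F)))
    (Q : Subgroup (ProjectiveSpecialLinearGroup (Fin n) F)), Pure p _ A Q → p = 3 ∧ SurvL n F Q

/-- [U1] -/
def BoxU1 : Prop := ∀ (p : ℕ) [Fact p.Prime] (F : Type) [Field F] [Fintype F] (n q : ℕ), (p : F) ≠ 0 →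
  Fintype.card F = q ^ 2 → 3 ≤ n → ¬ (n = 3 ∧ q = 2) → ∀ (A : Subgroup (MulAut (PSU n F q)))
    (Q : Subgroup (PSU n F q)), Pure p _ A Q → p = 3 ∧ SurvU n F q Q

/-- [L2] -/
def BoxL2 : Prop := ∀ (F : Type) [Field F] [Fintype F] (n : ℕ), 2 ≤ n → ∀ (G : Type) [Group G] [Finite G]
  (σ : G →* ProjectiveSpecialLinearGroup (Fin n) F) (M : Ideal AlgInt) (b : Set (IrrCharacter G)) (D : Subgroup G),
    Hyp 3 M b D σ → ¬ SurvL n F (D.map σ)

/-- [U2] -/
def BoxU2 : Prop := ∀ (F : Type) [Field F] [Fintype F] (n q : ℕ), Fintype.card F = q ^ 2 → 3 ≤ n →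
  ¬ (n = 3 ∧ q = 2) → ∀ (G : Type) [Group G] [Finite G] (σ : G →* PSU n F q) (M : Ideal AlgInt)
    (b : Set (IrrCharacter G)) (D : Subgroup G), Hyp 3 M b D σ → ¬ SurvU n F q (D.map σ)

/-- [FS] symplectic groups, semilinear automorphisms -/
def BoxFS : Prop := ∀ (p : ℕ) [Fact p.Prime] (F : Type) [Field F] [Fintype F] (m : ℕ), (p : F) ≠ 0 →
  ∀ (A : Subgroup (MulAut (PSp m F))) (Q : Subgroup (PSp m F)), A ≤ gammaPSp m F → ¬ Pure p _ A Q

/-- [FO] orthogonal groups (nondegenerate polar form), semilinear automorphisms -/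
def BoxFO : Prop := ∀ (p : ℕ) [Fact p.Prime] (F : Type) [Field F] [Fintype F] (ι : Type) [Fintype ι] [DecidableEq ι]
  (R : QuadraticMap F (ι → F) F), (p : F) ≠ 0 → 5 ≤ Fintype.card ι →
  (∀ v, (∀ w, QuadraticMap.polar R v w = 0) → v = 0) →
  ∀ (A : Subgroup (MulAut (POmega F ⇑R))) (Q : Subgroup (POmega F ⇑R)), A ≤ gammaPOmega F ⇑R → ¬ Pure p _ A Q

/-- [S4] `Sp₄(q)`, `q` even -/
def BoxS4 : Prop := ∀ (p : ℕ) [Fact p.Prime] (F : Type) [Field F] [Fintype F] [CharP F 2], 3 ≤ Fintype.card F →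
  Row p (PSp 2 F)

/-- the matrix of an element of `Ω` -/
abbrev mat {ι : Type} [Fintype ι] [DecidableEq ι] {F : Type} [Field F] {R : (ι → F) → F} (u : Omega F R) :
    Matrix ι ι F := u.1.1.1

/-- the surviving configuration in `PΩ₈⁺` -/
def SurvD (F : Type) [Field F] [Fintype F] (A : Subgroup (MulAut (POmega F (quadFormPlus 4 F))))
    (Q : Subgroup (POmega F (quadFormPlus 4 F))) : Prop :=
  (Fintype.card F % 5 = 2 ∨ Fintype.card F % 5 = 3) ∧ ∃ u₁ u₂ : Omega F (quadFormPlus 4 F),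
    u₁ ^ 5 = 1 ∧ u₂ ^ 5 = 1 ∧ (mat u₁ - 1) * (mat u₂ - 1) = 0 ∧ (mat u₂ - 1) * (mat u₁ - 1) = 0 ∧
    (mat u₁ - 1).rank = 4 ∧ (mat u₂ - 1).rank = 4 ∧
    Q = Subgroup.closure {QuotientGroup.mk u₁, QuotientGroup.mk u₂} ∧
    ∃ α ∈ A, (∀ x, α x ∈ Q ↔ x ∈ Q) ∧ ∀ j : ℤ, ¬ 3 ∣ j →
      (α ^ j) (QuotientGroup.mk u₁) ∉ Subgroup.zpowers (QuotientGroup.mk u₁ : POmega F (quadFormPlus 4 F)) ∧
      (α ^ j) (QuotientGroup.mk u₁) ∉ Subgroup.zpowers (QuotientGroup.mk u₂ : POmega F (quadFormPlus 4 F))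

/-- [D4A] -/
def BoxD4A : Prop := ∀ (p : ℕ) [Fact p.Prime] (F : Type) [Field F] [Fintype F], (p : F) ≠ 0 →
  ∀ (G : Type) [Group G] [Finite G] (σ : G →* POmega F (quadFormPlus 4 F)) (M : Ideal AlgInt)
    (b : Set (IrrCharacter G)) (D : Subgroup G), Hyp p M b D σ →
    p = 5 ∧ ∃ σ' : G →* POmega F (quadFormPlus 4 F), Hyp p M b D σ' ∧ SurvD F (Ind σ' b) (D.map σ')

/-- [D4B] `q` odd -/
def BoxD4B : Prop := ∀ (F : Type) [Field F] [Fintype F], Odd (Fintype.card F) →
  ∀ (G : Type) [Group G] [Finite G] (σ : G →* POmega F (quadFormPlus 4 F)) (M : Ideal AlgInt)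
    (b : Set (IrrCharacter G)) (D : Subgroup G), Hyp 5 M b D σ → ¬ SurvD F (Ind σ b) (D.map σ)

/-- [D4C] `q` even -/
def BoxD4C : Prop := ∀ (F : Type) [Field F] [Fintype F], Even (Fintype.card F) →
  ∀ (G : Type) [Group G] [Finite G] (σ : G →* POmega F (quadFormPlus 4 F)) (M : Ideal AlgInt)
    (b : Set (IrrCharacter G)) (D : Subgroup G), Hyp 5 M b D σ → ¬ SurvD F (Ind σ b) (D.map σ)

end Cfsg.Agent.TO
end

-- part: TO/FO/Box
section
set_option linter.all false
open scoped Cfsg.Agent.FastGrp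

/-!
# S4817: the frames of `Sp` and `Ω`, the boxes FS and FO
-/

set_option autoImplicit false
set_option linter.unusedSectionVars false

namespace Cfsg.Agent.TO.FO

open Cfsg Matrix Cfsg.Agent.BHZ.Nil

variable {p : ℕ} [hp : Fact p.Prime]

theorem centPP_of_sq {Y : Type*} [Group Y] [Finite Y] (hp2 : p ≠ 2) (h : ∀ z ∈ Subgroup.center Y, z ^ 2 = 1) :
    CentPP p (QuotientGroup.mk' (Subgroup.center Y)) := by
  refine ⟨(QuotientGroup.ker_mk' _).le, fun hd => ?_⟩
  rw [QuotientGroup.ker_mk'] at hd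
  obtain ⟨z, hz⟩ := exists_prime_orderOf_dvd_card' p hd
  have h1 : orderOf z ∣ 2 := orderOf_dvd_of_pow_eq_one (Subtype.ext (h z z.2))
  rw [hz] at h1
  exact hp2 ((Nat.prime_dvd_prime_iff_eq hp.out Nat.prime_two).1 h1)

section Sp

variable (m : ℕ) (F : Type*) [Field F]

/-- the embedding of `Sp` -/
def jSp : symplecticGroup (Fin m) F →* GL (Fin m ⊕ Fin m) F := (symplecticGroup (Fin m) F).subtype.toHomUnits

/-- the projection onto `PSp` -/
abbrev πSp : symplecticGroup (Fin m) F →* PSp m F := QuotientGroup.mk' _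

/-- `Sp` in `GL` -/
def ΓSp : Subgroup (GL (Fin m ⊕ Fin m) F) := preserving (Units.coeHom _) (sympForm m F)

variable {m F}

theorem val_jSp (s : symplecticGroup (Fin m) F) : (jSp m F s : Matrix (Fin m ⊕ Fin m) (Fin m ⊕ Fin m) F) = s.1 := rfl

theorem jSp_inj : Function.Injective (jSp m F) := fun _ _ h => Subtype.ext (congrArg Units.val h)

theorem biAdd_symp : BiAdd (sympForm m F) := ⟨fun u u' v => add_dotProduct _ _ _,
  fun u v v' => by simp only [sympForm, mulVec_add, dotProduct_add],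
  fun N u v => by simp only [sympForm, mulVec_smul, smul_dotProduct, dotProduct_smul]⟩

theorem mem_Sp_iff (g : Matrix (Fin m ⊕ Fin m) (Fin m ⊕ Fin m) F) :
    g ∈ symplecticGroup (Fin m) F ↔ ∀ u v, sympForm m F (g *ᵥ u) (g *ᵥ v) = sympForm m F u v := by
  have h1 : ∀ u v, sympForm m F (g *ᵥ u) (g *ᵥ v) = u ⬝ᵥ ((gᵀ * J (Fin m) F * g) *ᵥ v) := fun u v => by
    simp only [sympForm]
    rw [← vecMul_transpose, ← dotProduct_mulVec, mulVec_mulVec, mulVec_mulVec]
  rw [SymplecticGroup.mem_iff']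
  constructor
  · intro h u v
    rw [h1, h, sympForm]
  · intro h
    ext i j
    have := h (Pi.single i 1) (Pi.single j 1)
    rw [h1] at this
    simpa only [sympForm, _root_.Matrix.mulVec_single, _root_.MulOpposite.op_one, _root_.one_smul, _root_.single_dotProduct, _root_.Matrix.col_apply, _root_.one_mul] using this

theorem range_jSp : (jSp m F).range = ΓSp m F := by
  apply le_antisymm
  · rintro _ ⟨s, rfl⟩
    exact (mem_Sp_iff s.1).1 s.2
  · intro g hg
    exact ⟨⟨g, (mem_Sp_iff _).2 hg⟩, Units.ext rfl⟩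

theorem sq_center_Sp {z : symplecticGroup (Fin m) F} (hz : z ∈ Subgroup.center (symplecticGroup (Fin m) F)) :
    z ^ 2 = 1 := by
  obtain ⟨a, ha⟩ := (LieClassical.SympCenter.mem_center_iff m z).1 hz
  have h1 := SymplecticGroup.mem_iff.1 z.2
  rw [ha, transpose_smul, transpose_one, smul_mul_assoc, mul_smul_comm, smul_mul_assoc, one_mul, mul_one] at h1
  have h2 := congrArg (fun M => M * J (Fin m) F) h1
  simp only [smul_mul_assoc, J_squared, smul_neg, neg_inj] at h2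
  apply Subtype.ext
  change z.1 ^ 2 = 1
  rw [ha, pow_two, smul_mul_assoc, one_mul, h2]

theorem frameSp [Finite F] (hp2 : p ≠ 2) (hF : (p : F) ≠ 0) : Frame p (ΓSp m F) (jSp m F) (πSp m F) where
  hF := hF
  inj := jSp_inj
  le y := range_jSp.le ⟨y, rfl⟩
  cut := cutClosed_preserving hF biAdd_symp
  pel _ hg _ _ := range_jSp.ge hg
  surj := QuotientGroup.mk'_surjective _
  cpp := centPP_of_sq hp2 fun _ => sq_center_Sp

theorem sympForm_map (σ : F ≃+* F) (u v : Fin m ⊕ Fin m → F) :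
    sympForm m F (fun i => σ (u i)) (fun i => σ (v i)) = σ (sympForm m F u v) := by
  have h1 : (J (Fin m) F).map σ = J (Fin m) F := by
    ext i j
    rcases i with i | i <;> rcases j with j | j <;>
      simp only [J, Matrix.one_apply, apply_ite (fun x => σ x), _root_.Matrix.map_apply, _root_.Matrix.fromBlocks_apply₁₁, _root_.Matrix.zero_apply, _root_.map_zero, _root_.Matrix.fromBlocks_apply₁₂, _root_.Matrix.neg_apply, _root_.map_neg, _root_.map_one, _root_.Matrix.fromBlocks_apply₂₁, _root_.Matrix.fromBlocks_apply₂₂]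
  have h2 := H198.SemiMat.map_mulVec σ (J (Fin m) F) v
  rw [h1] at h2
  simp only [sympForm]
  rw [h2]
  simp only [dotProduct, map_sum, map_mul, _root_.Fintype.sum_sum_type, _root_.map_add]

theorem exists_semi {ι : Type*} [Fintype ι] [DecidableEq ι] (g : GL ι F) (σ : F ≃+* F) (w : ι → F) :
    ∃ v : ι → F, (g : Matrix ι ι F) *ᵥ (fun i => σ (v i)) = w := by
  refine ⟨fun i => σ.symm ((((g⁻¹ : GL ι F) : Matrix ι ι F) *ᵥ w) i), ?_⟩
  simp only [RingEquiv.apply_symm_apply]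
  rw [Matrix.mulVec_mulVec, ← Units.val_mul, mul_inv_cancel, Units.val_one, Matrix.one_mulVec]

theorem gammaPSp_le [Finite F] : gammaPSp m F ≤ Semi (jSp m F) (πSp m F) := by
  refine (Subgroup.closure_le _).2 ?_
  rintro α ⟨g, σ, ⟨c, hc⟩, hα⟩
  refine mem_Semi jSp_inj (g := g) (σ := σ) (fun y => range_jSp.ge fun u v => ?_)
    fun y y' e => hα y y' (congrArg Units.val e)
  obtain ⟨u, rfl⟩ := exists_semi g σ u
  obtain ⟨v, rfl⟩ := exists_semi g σ v
  change sympForm m F ((sc g σ (jSp m F y)).val *ᵥ _) ((sc g σ (jSp m F y)).val *ᵥ _) = _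
  rw [H198.SemiMat.conj_mulVec (val_sc g σ _), H198.SemiMat.conj_mulVec (val_sc g σ _), hc, hc, sympForm_map,
    sympForm_map, val_jSp, (mem_Sp_iff y.1).1 y.2]

end Sp

section O

variable {ι : Type} [Fintype ι] [DecidableEq ι] (F : Type*) [Field F]

/-- the embedding of `Ω` -/
def jO (R : (ι → F) → F) : Omega F R →* GL ι F := (isometryGroup F R).subtype.comp (Omega F R).subtype

/-- the projection onto `PΩ` -/
abbrev πO (R : (ι → F) → F) : Omega F R →* POmega F R := QuotientGroup.mk' _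

variable {F}

theorem jO_inj {R : (ι → F) → F} : Function.Injective (jO F R) :=
  (isometryGroup F R).subtype_injective.comp (Omega F R).subtype_injective

theorem range_jO {R : (ι → F) → F} : (jO F R).range = ⁅isometryGroup F R, isometryGroup F R⁆ := by
  rw [← Subgroup.map_subtype_commutator, jO, MonoidHom.range_comp, Subgroup.range_subtype]

theorem sc_mem_isometry {R : (ι → F) → F} {g : GL ι F} {σ : F ≃+* F} (hg : IsSemisimilarityPair R g σ) {s : GL ι F}
    (hs : s ∈ isometryGroup F R) : sc g σ s ∈ isometryGroup F R := by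
  obtain ⟨c, hc⟩ := hg
  intro u _
  obtain ⟨u, rfl⟩ := exists_semi g σ u
  change R ((sc g σ s).val *ᵥ _) = R _
  rw [H198.SemiMat.conj_mulVec (val_sc g σ _), hc, hc, show R ((s : Matrix ι ι F) *ᵥ u) = R u from hs u u]

theorem gammaPOmega_le [Finite F] (R : (ι → F) → F) : gammaPOmega F R ≤ Semi (jO F R) (πO F R) := by
  refine (Subgroup.closure_le _).2 ?_
  rintro α ⟨g, σ, hg, hα⟩
  refine mem_Semi jO_inj (g := g) (σ := σ) (fun y => ?_) fun y y' e => hα y y' (congrArg Units.val e)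
  have h1 : (isometryGroup F R).map (sc g σ) ≤ isometryGroup F R := by
    rintro _ ⟨s, hs, rfl⟩
    exact sc_mem_isometry hg hs
  have h2 : (jO F R).range.map (sc g σ) ≤ (jO F R).range := by
    rw [range_jO, Subgroup.map_commutator]
    exact Subgroup.commutator_mono h1 h1
  exact h2 ⟨_, ⟨y, rfl⟩, rfl⟩

variable {R : QuadraticMap F (ι → F) F}

theorem nondeg (h : ∀ v, (∀ w, QuadraticMap.polar R v w = 0) → v = 0) : (QuadraticMap.polarBilin R).Nondegenerate :=
  ⟨fun x hx => h x fun y => hx y, fun x hx => h x fun y => (QuadraticMap.polar_comm _ _ _).trans (hx y)⟩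

open ClassicalGeometry.Reflection in
theorem sq_mem_Omega (hR : ∀ v, (∀ w, QuadraticMap.polar R v w = 0) → v = 0)
    (h4 : (∃ θ : F, θ ≠ 0 ∧ θ ≠ 1) ∨ Fintype.card ι ≠ 4) (g : isometryGroup F R) : g ^ 2 ∈ Omega F R :=
  ClassicalGeometry.OrthCharTwo.isometry_induction R (nondeg hR) h4 (fun g => g ^ 2 ∈ Omega F R)
    (by rw [one_pow]; exact one_mem _) (fun v hv g hg => by
      have h1 : Abelianization.of (reflIso R v hv) ^ 2 = 1 := by rw [← map_pow, pow_two, reflIso_mul_self, map_one]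
      rw [Omega, ← Abelianization.ker_of, MonoidHom.mem_ker, map_pow] at hg ⊢
      rw [map_mul, mul_pow, h1, hg, mul_one]) g

/-- isometries of odd order lie in `Ω` -/
theorem mem_range_jO (hR : ∀ v, (∀ w, QuadraticMap.polar R v w = 0) → v = 0)
    (h4 : (∃ θ : F, θ ≠ 0 ∧ θ ≠ 1) ∨ Fintype.card ι ≠ 4) {g : GL ι F} (hg : g ∈ isometryGroup F R) {n : ℕ}
    (hn : Odd n) (h : g ^ n = 1) : g ∈ (jO F R).range := by
  obtain ⟨k, rfl⟩ := hn
  refine ⟨⟨(⟨g, hg⟩ ^ 2) ^ (k + 1), pow_mem (sq_mem_Omega hR h4 _) _⟩, ?_⟩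
  change (g ^ 2) ^ (k + 1) = g
  rw [← pow_mul, show 2 * (k + 1) = 2 * k + 1 + 1 by ring, pow_succ, h, one_mul]

theorem center_Omega [Finite F] (hR : ∀ v, (∀ w, QuadraticMap.polar R v w = 0) → v = 0) (h3 : 3 ≤ Fintype.card ι)
    (z : Omega F R) : z ∈ Subgroup.center (Omega F R) ↔ (jO F R z : Matrix ι ι F) = 1 ∨ (jO F R z : Matrix ι ι F) = -1 := by
  obtain ⟨w, -, h1, h2⟩ := LieClassical.OrthFinite.exists_sing_mem (Q := R) ⊤
    (by rwa [finrank_top, Module.finrank_fintype_fun_eq_card])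
  exact LieClassical.OrthCenter.mem_center_omega_iff (nondeg hR) h3 ⟨w, h1, h2⟩ z

theorem frameO [Finite F] (hp2 : p ≠ 2) (hF : (p : F) ≠ 0) (hR : ∀ v, (∀ w, QuadraticMap.polar R v w = 0) → v = 0)
    (h5 : 5 ≤ Fintype.card ι) : Frame p (isometryGroup F R) (jO F R) (πO F R) where
  hF := hF
  inj := jO_inj
  le y := y.1.2
  cut := cutClosed_isometry hF R
  pel _ hg _ h := mem_range_jO hR (.inr (by omega)) hg (hp.out.odd_of_ne_two hp2).pow h
  surj := QuotientGroup.mk'_surjective _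
  cpp := centPP_of_sq hp2 fun z hz => jO_inj (Units.ext (by
    rw [map_pow, map_one, Units.val_pow_eq_pow_val, Units.val_one]
    rcases (center_Omega hR (by omega) z).1 hz with h | h <;> rw [h] <;> simp only [_root_.one_pow, _root_.even_two, _root_.Even.neg_pow]))

end O

theorem boxFS : BoxFS := fun _ _ _ _ _ _ hF _ Q hA H =>
  (frameSp H.odd hF).not_pure (hA.trans gammaPSp_le) Q H

theorem boxFO : BoxFO := fun _ _ _ _ _ _ _ _ R hF h5 hR _ Q hA H =>
  (frameO H.odd hF hR h5).not_pure (hA.trans (gammaPOmega_le R)) Q H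

end Cfsg.Agent.TO.FO

private theorem dce_360810879bd1 : _root_.True := by
  try have : _root_.True := by simp only [_root_.Cfsg.sympForm.eq_1]
  try have : _root_.True := by simp only [_root_.Cfsg.Agent.TO.FO.jO.eq_1]
  exact _root_.True.intro
end
end
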